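import Cfsg.Agent.H805.NilSp_m3
import Cfsg.Agent.H4.RowTits
import Cfsg.Agent.H403.TitsSixteen
import Cfsg.Agent.FastGrp
import Cfsg.Agent.Prune
set_option linter.all false
prune_inst 0x7f00000000000000000000000000000000000000000000000000000000000000000000000000000000000000000000000000000000000000000000000000000000000000000000000000000000000000003fffffffffffffffffffffffffffbeffbdffffffff
open scoped Cfsg.Agent.FastGrp

/-!
# Nilpotent subgroups of the Tits group (helper270, for S2242)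

A nilpotent subgroup `N` of even order lies in the centralizer of an involution `t`; if `t` is 2-central then `C(t)` is a
`{2,5}`-group, otherwise `|C(t)|` divides `2 ^ 11 * 3` and `N` is not all of it because no element of order 3 centralizes
a Sylow 2-subgroup.
-/

set_option autoImplicit false

namespace Cfsg.Agent.H270.NS.Tits

open Subgroup Cfsg Cfsg.Agent.TitsK Cfsg.Agent.TitsK.Abs Cfsg.Agent.H972.NSm

universe u v

section abs

variable {G : Type v} [Group G] [Finite G] (D : TData G)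

/-- the centralizer of `d` has order `2 ^ a * b`, `b ∣ 6` -/
theorem card_d (h4 : Nat.card ↥D.V ≤ 4) {R : Subgroup G} (hR : R ≤ D.H) (hd : ∀ g ∈ R, g * D.d * g⁻¹ = D.d) :
    ∃ n, Nat.card ↥R ∣ 2 ^ n * 3 := by
  have h2f : Fact (Nat.Prime 2) := ⟨Nat.prime_two⟩
  have hV : ∀ g ∈ R, ∀ v ∈ D.V, g * v * g⁻¹ ∈ D.V := fun g hg => D.cent_d g (hR hg) (hd g hg)
  let φ : ↥R →* Equiv.Perm ↥D.V :=
    { toFun := fun g =>
        { toFun := fun v => ⟨g * v * (g : G)⁻¹, hV g g.2 v v.2⟩
          invFun := fun v => ⟨(g : G)⁻¹ * v * g, by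
            have h1 := hV _ (inv_mem g.2) v v.2
            rwa [inv_inv] at h1⟩
          left_inv := fun v => Subtype.ext (by
            show (g : G)⁻¹ * (g * v * (g : G)⁻¹) * g = v
            group)
          right_inv := fun v => Subtype.ext (by
            show (g : G) * ((g : G)⁻¹ * v * g) * (g : G)⁻¹ = v
            group) }
      map_one' := by
        ext v
        show (1 : G) * v * (1 : G)⁻¹ = v
        group
      map_mul' := fun a b => by
        ext v
        show ((a : G) * b) * v * ((a : G) * b)⁻¹ = a * (b * v * (b : G)⁻¹) * (a : G)⁻¹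
        group }
  have hker : IsPGroup 2 ↥φ.ker := by
    have h1 : ∀ g ∈ φ.ker, (g : G) ∈ D.U := by
      intro g hg
      have h2 : ∀ v (hv : v ∈ D.V), (g : G) * v * (g : G)⁻¹ = v := fun v hv =>
        congrArg (fun σ : Equiv.Perm ↥D.V => ((σ ⟨v, hv⟩ : ↥D.V) : G)) (MonoidHom.mem_ker.1 hg)
      exact D.cent_V g (hR g.2) (h2 _ D.z_mem_V) (h2 _ D.z1_mem_V)
    intro g
    obtain ⟨n, hn⟩ := D.isPGroup_U ⟨_, h1 g g.2⟩
    have h3 : ((g : ↥R) : G) ^ 2 ^ n = 1 := congrArg Subtype.val hn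
    exact ⟨n, Subtype.ext (Subtype.ext (by
      push_cast
      exact h3))⟩
  obtain ⟨n, hn⟩ := IsPGroup.iff_card.1 hker
  have h1 := φ.ker.card_mul_index
  rw [hn, Subgroup.index_ker] at h1
  have h2 : Nat.card ↥φ.range ∣ 24 := by
    refine (Subgroup.card_subgroup_dvd_card _).trans ?_
    rw [Nat.card_perm]
    exact Nat.factorial_dvd_factorial h4
  refine ⟨n + 3, ?_⟩
  rw [← h1, pow_add, mul_assoc]
  exact mul_dvd_mul_left _ h2

theorem dvd_aux {c n b k m : ℕ} (hb : Nat.Prime b) (h : c ∣ 2 ^ n * b) (h' : c ∣ 2 ^ k * m) (hm : Nat.Coprime 2 m) :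
    ∃ i, i ≤ k ∧ (c = 2 ^ i ∨ c = 2 ^ i * b) := by
  obtain ⟨a, u, ha, hu, rfl⟩ := (Nat.dvd_mul).1 h
  obtain ⟨i, hi, rfl⟩ := (Nat.dvd_prime_pow Nat.prime_two).1 ha
  have h1 : 2 ^ i ∣ 2 ^ k * m := (dvd_mul_right _ _).trans h'
  have h2 : 2 ^ i ∣ 2 ^ k := (hm.pow_left i).dvd_of_dvd_mul_right h1
  refine ⟨i, (Nat.pow_dvd_pow_iff_le_right (by norm_num)).1 h2, ?_⟩
  rcases (Nat.dvd_prime hb).1 hu with rfl | rfl
  · left; rw [mul_one]
  · right; rfl

/-- the image of a subgroup under conjugation -/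
theorem card_conj {N : Subgroup ↥D.T} {t : G} :
    Nat.card ↥((N.map D.T.subtype).map (MulAut.conj t).toMonoidHom) = Nat.card ↥N := by
  rw [← Nat.card_congr ((N.map D.T.subtype).equivMapOfInjective _ (MulAut.conj t).injective).toEquiv,
    ← Nat.card_congr (N.equivMapOfInjective _ D.T.subtype_injective).toEquiv]

theorem conj_le {N : Subgroup ↥D.T} {t : G} (ht : t ∈ D.T) :
    (N.map D.T.subtype).map (MulAut.conj t).toMonoidHom ≤ D.H := by
  rintro _ ⟨_, ⟨x, hx, rfl⟩, rfl⟩
  exact D.T_le (D.T.mul_mem (D.T.mul_mem ht x.2) (D.T.inv_mem ht))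

theorem conj_fix {N : Subgroup ↥D.T} {t : G} {x : ↥D.T} {c : G} (hc : t * x * t⁻¹ = c)
    (hN : N ≤ centralizer ({x} : Set ↥D.T)) :
    ∀ g ∈ (N.map D.T.subtype).map (MulAut.conj t).toMonoidHom, g * c * g⁻¹ = c := by
  rintro _ ⟨_, ⟨y, hy, rfl⟩, rfl⟩
  have h1 : (y : G) * x = x * y := congrArg Subtype.val (mem_centralizer_singleton_iff.1 (hN hy))
  show t * (y : G) * t⁻¹ * c * (t * (y : G) * t⁻¹)⁻¹ = c
  rw [← hc]
  calc t * (y : G) * t⁻¹ * (t * x * t⁻¹) * (t * (y : G) * t⁻¹)⁻¹ = t * (y * x) * (y : G)⁻¹ * t⁻¹ := by group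
    _ = t * x * t⁻¹ := by rw [h1]; group

/-- **abstract form** -/
theorem small (hcard : Nat.card ↥D.T = 17971200) (h4 : Nat.card ↥D.V ≤ 4)
    (hz : ∀ R : Subgroup G, R ≤ D.H → (∀ g ∈ R, g * D.z * g⁻¹ = D.z) → ∃ n, Nat.card ↥R ∣ 2 ^ n * 5)
    (h5 : ∀ y : ↥D.T, orderOf y = 5 → Nat.card ↥(centralizer ({y} : Set ↥D.T)) = 50) : H972.NSm.Small ↥D.T := by
  have h2f : Fact (Nat.Prime 2) := ⟨Nat.prime_two⟩
  have h3f : Fact (Nat.Prime 3) := ⟨Nat.prime_three⟩
  intro N hN
  rw [hcard]
  have hN0 : 0 < Nat.card ↥N := Nat.card_pos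
  have hdvd : Nat.card ↥N ∣ 17971200 := hcard ▸ Subgroup.card_subgroup_dvd_card N
  have key : Nat.card ↥N ≤ 3072 := by
    by_cases c5 : 5 ∣ Nat.card ↥N
    · obtain ⟨x, hx, -, hle⟩ := exists_le_centralizer hN (by norm_num) c5
      have h1 := Subgroup.card_le_of_le hle
      rw [h5 x hx] at h1
      omega
    have hd : Nat.card ↥N ∣ 2 ^ 11 * 351 := by
      have h1 : Nat.card ↥N ∣ (2 ^ 11 * 351) * 5 ^ 2 := by norm_num; exact hdvd
      exact ((((Nat.Prime.coprime_iff_not_dvd (by norm_num)).2 c5).symm).pow_right 2).dvd_of_dvd_mul_right h1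
    by_cases c2 : 2 ∣ Nat.card ↥N
    · obtain ⟨x, hx, -, hle⟩ := exists_le_centralizer hN Nat.prime_two c2
      have hxx : (x : G) * x = 1 := by
        have h1 := pow_orderOf_eq_one x
        rw [hx, pow_two] at h1
        exact congrArg Subtype.val h1
      have hx1 : (x : G) ≠ 1 := by
        intro h
        have h1 : x = 1 := Subtype.ext h
        rw [h1, orderOf_one] at hx
        norm_num at hx
      rcases D.invol_cases x.2 hxx hx1 with ⟨t, ht, htx⟩ | ⟨t, ht, htx⟩
      · obtain ⟨n, hn⟩ := hz _ (conj_le D (N := N) ht) (conj_fix D htx hle)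
        rw [card_conj] at hn
        obtain ⟨i, hi, h | h⟩ := dvd_aux (by norm_num) hn hd (by norm_num)
        · rw [h]
          calc 2 ^ i ≤ 2 ^ 11 := Nat.pow_le_pow_right (by norm_num) hi
            _ ≤ 3072 := by norm_num
        · exact absurd ⟨2 ^ i, by rw [h]; ring⟩ c5
      · obtain ⟨n, hn⟩ := card_d D h4 (conj_le D (N := N) ht) (conj_fix D htx hle)
        rw [card_conj] at hn
        obtain ⟨i, hi, h | h⟩ := dvd_aux (by norm_num) hn hd (by norm_num)
        · rw [h]
          calc 2 ^ i ≤ 2 ^ 11 := Nat.pow_le_pow_right (by norm_num) hi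
            _ ≤ 3072 := by norm_num
        · rcases Nat.lt_or_ge i 11 with h11 | h11
          · rw [h]
            calc 2 ^ i * 3 ≤ 2 ^ 10 * 3 := Nat.mul_le_mul_right _ (Nat.pow_le_pow_right (by norm_num) (by omega))
              _ = 3072 := by norm_num
          · exfalso
            have hi11 : i = 11 := by omega
            rw [hi11] at h
            -- a Sylow 2-subgroup of `T` inside `N`
            obtain ⟨y, hy, -, hley⟩ := exists_le_centralizer hN Nat.prime_three ⟨2 ^ 11, by rw [h]; ring⟩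
            obtain ⟨P⟩ : Nonempty (Sylow 2 ↥N) := inferInstance
            have hP : Nat.card ↥(P : Subgroup ↥N) = 2 ^ 11 := by
              rw [P.card_eq_multiplicity, h]
              congr 1
              rw [Nat.factorization_mul (by norm_num) (by norm_num), Nat.Prime.factorization_pow Nat.prime_two]
              simp [Nat.factorization_eq_zero_of_not_dvd]
            have hf : (Nat.card ↥D.T).factorization 2 = 11 := by
              rw [hcard, show 17971200 = 2 ^ 11 * 8775 by norm_num, Nat.factorization_mul (by norm_num) (by norm_num),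
                Nat.Prime.factorization_pow Nat.prime_two]
              simp [Nat.factorization_eq_zero_of_not_dvd]
            let Q : Sylow 2 ↥D.T := Sylow.ofCard ((P : Subgroup ↥N).map N.subtype) (by
              rw [← Nat.card_congr ((P : Subgroup ↥N).equivMapOfInjective _ N.subtype_injective).toEquiv, hP, hf])
            obtain ⟨g, hg⟩ := D.exists_syl Q
            have hzT : D.z ∈ D.T := D.V_le_T D.z_mem_V
            have h1 : g * ⟨D.z, hzT⟩ * g⁻¹ ∈ Q := by
              rw [hg]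
              have e : g⁻¹ * (g * ⟨D.z, hzT⟩ * g⁻¹) * g = (⟨D.z, hzT⟩ : ↥D.T) := by group
              rw [e, D.mem_syl]
              exact ⟨D.V_le_U D.z_mem_V, hzT⟩
            have h2 : g * ⟨D.z, hzT⟩ * g⁻¹ ∈ N := by
              have h3 : (Q : Subgroup ↥D.T) ≤ N := Subgroup.map_subtype_le _
              exact h3 h1
            have h3 := mem_centralizer_singleton_iff.1 (hley h2)
            -- `y' = g⁻¹ y g` centralizes `z`
            have h6 : ((g⁻¹ * y * g : ↥D.T) : G) * D.z = D.z * ((g⁻¹ * y * g : ↥D.T) : G) := by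
              have h7 : (g⁻¹ * y * g) * (⟨D.z, hzT⟩ : ↥D.T) = ⟨D.z, hzT⟩ * (g⁻¹ * y * g) := by
                calc (g⁻¹ * y * g) * (⟨D.z, hzT⟩ : ↥D.T) = g⁻¹ * (y * (g * ⟨D.z, hzT⟩ * g⁻¹)) * g := by group
                  _ = g⁻¹ * ((g * ⟨D.z, hzT⟩ * g⁻¹) * y) * g := by rw [h3]
                  _ = _ := by group
              exact congrArg Subtype.val h7
            obtain ⟨n', hn'⟩ := hz (zpowers ((g⁻¹ * y * g : ↥D.T) : G)) (by
              rw [zpowers_le]
              exact D.T_le (g⁻¹ * y * g : ↥D.T).2) (by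
              rintro _ ⟨k, rfl⟩
              rw [mul_inv_eq_iff_eq_mul]
              exact (show Commute _ _ from h6).zpow_left k)
            rw [Nat.card_zpowers, Subgroup.orderOf_coe] at hn'
            have h8 : orderOf (g⁻¹ * y * g) = 3 := by
              have h9 := orderOf_injective (MulAut.conj g⁻¹).toMonoidHom (MulAut.conj g⁻¹).injective y
              have h10 : (MulAut.conj g⁻¹).toMonoidHom y = g⁻¹ * y * g := by
                show g⁻¹ * y * (g⁻¹)⁻¹ = _
                rw [inv_inv]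
              rw [h10] at h9
              rw [h9, hy]
            rw [h8] at hn'
            rcases (Nat.Prime.dvd_mul Nat.prime_three).1 hn' with h9 | h9
            · have := Nat.prime_three.dvd_of_dvd_pow h9
              norm_num at this
            · norm_num at h9
    · have h1 : Nat.card ↥N ∣ 351 :=
        ((((Nat.Prime.coprime_iff_not_dvd Nat.prime_two).2 c2).symm).pow_right 11).dvd_of_dvd_mul_left hd
      have := Nat.le_of_dvd (by norm_num) h1
      omega
  calc Nat.card ↥N ^ 2 ≤ 3072 ^ 2 := Nat.pow_le_pow_left key 2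
    _ < 17971200 := by norm_num

end abs

section conc

open Cfsg.Agent.ChevalleyStructure.TwF4.Tables
open Cfsg.Agent.FourTwo.Base hiding bar bar_lt
open Cfsg.Agent.FourTwo.BN Cfsg.Agent.FourTwo.Comm Cfsg.Agent.FourTwo.Classes

/-- the centralizer of `z` is a `{2,5}`-group -/
theorem card_z {R : Subgroup LL} (hR : R ≤ HT) (hz : ∀ g ∈ R, g * z * g⁻¹ = z) : ∃ n, Nat.card ↥R ∣ 2 ^ n * 5 := by
  have h2f : Fact (Nat.Prime 2) := ⟨Nat.prime_two⟩
  have hfin : Finite LL := inferInstance
  have hRP : R ≤ Pz := fun g hg => mem_Pz.2 ⟨hR hg, hz g hg⟩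
  have h1 : E8.relIndex Pz ∣ 4 := relIndex_dvd_of_mulSub yb_norm_E8 yb_mem_Pz (fun _ hb _ hq => Pz_conj_E8 hb hq)
    yb_pow4_mem_E8 Pz_le
  have h2 : Q8.relIndex E8 ∣ 5 := relIndex_dvd_of_mulSub (norm_Q8 xf_mem_Pz) xf_mem_E8
    (fun b hb q hq => Pz_conj_Q8 (E8_le_Pz hb) hq) (by rw [xf_pow5]; exact Q8.one_mem) le_rfl
  have hQ : IsPGroup 2 ↥Q8 := isPGroup_UT.to_le Q8_le
  obtain ⟨n, hn⟩ := IsPGroup.iff_card.1 hQ
  have h3 : Q8.relIndex Pz ∣ 5 * 4 := by
    rw [← Subgroup.relIndex_mul_relIndex Q8 E8 Pz Q8_le_E8 E8_le_Pz]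
    exact mul_dvd_mul h2 h1
  have h4 := (Q8.subgroupOf Pz).card_mul_index
  rw [Nat.card_congr (subgroupOfEquivOfLe Q8_le_Pz).toEquiv, hn] at h4
  refine ⟨n + 2, (Subgroup.card_dvd_of_le hRP).trans ?_⟩
  rw [← h4, pow_add, mul_assoc]
  exact mul_dvd_mul_left _ (h3.trans (by norm_num))

theorem small_of_data {X : Type u} [Group X] {G : Type v} [Group G] [Finite G] (D : TData G)
    (e : Nonempty (X ≃* ↥D.T)) (hcard : Nat.card X = 17971200) (h4 : Nat.card ↥D.V ≤ 4)
    (hz : ∀ R : Subgroup G, R ≤ D.H → (∀ g ∈ R, g * D.z * g⁻¹ = D.z) → ∃ n, Nat.card ↥R ∣ 2 ^ n * 5)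
    (h5 : ∀ y : X, orderOf y = 5 → Nat.card ↥(centralizer ({y} : Set X)) = 50) : H972.NSm.Small X := by
  obtain ⟨e⟩ := e
  refine (small D ?_ h4 hz fun y hy => ?_).congr e.symm
  · rw [← hcard]
    exact (Nat.card_congr e.toEquiv).symm
  · have h1 := h5 (e.symm y) (by rw [MulEquiv.orderOf_eq, hy])
    rw [← h1]
    refine Nat.card_congr (Equiv.subtypeEquiv e.symm.toEquiv fun g => ?_)
    rw [mem_centralizer_singleton_iff, mem_centralizer_singleton_iff]
    constructor
    · intro h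
      change e.symm g * e.symm y = e.symm y * e.symm g
      rw [← map_mul, h, map_mul]
    · intro h
      apply e.symm.injective
      rw [map_mul, map_mul]
      exact h

/-- **The Tits group.** -/
theorem small_Tits {X : Type u} [Group X] [Finite X] (h : Lie.IsoTits X) : H972.NSm.Small X := by
  have O := CpAutTits.Row.out h
  obtain ⟨e⟩ := h
  obtain ⟨e'⟩ := exists_equiv
  have h4 : Nat.card ↥tdata.V ≤ 4 := (CentOdd.card_four (V := V4) fun _ => mem_V4_iff).2
  have e₀ : X ≃* ↥(tdata.T) := e.trans e'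
  exact small_of_data tdata ⟨e₀⟩ (by rw [O.card]; norm_num) h4 (fun R hR hz => card_z hR hz) O.cent

end conc

end Cfsg.Agent.H270.NS.Tits
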